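import Mathlib
import Cfsg.Prelude
import Cfsg.Statements.S1350
import Cfsg.Statements.S1429
import Cfsg.Statements.S1430
import Cfsg.Agent.S1446
import Cfsg.Agent.Lib.Helper27.BG.SigmaBasic
import Cfsg.Agent.Lib.Helper27.BG.S1433Core
import Cfsg.Agent.Lib.Helper35.BG.Basic
import Cfsg.Agent.Lib.Helper35.BG.Hall
import Cfsg.Agent.Lib.Helper47.BG.S1354Core
import Cfsg.Agent.Lib.Helper67.BG.Basics

/-!
# Generic packages for the Bender–Glauberman 14.7 polygon count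

* `ti_class_count` : a normal subset `D` of a subgroup `Z` with `g d g⁻¹ ∈ D → g ∈ Z` has
  `|G| |D| / |Z|` conjugates.
* `card_prime_of_not_P1` : a maximal subgroup `M` with a prime outside `σ(M) ∪ κ(M)` has a Hall
  `κ(M)`-subgroup of prime order, `M_σ` nilpotent, `|M_σ| = |K*| ^ |K|` (from S1429, S1430, S1446).
* `card_eq_of_P1` : if all primes of `|M|` lie in `σ(M) ∪ κ(M)` then `|M| = |M_σ| |K|`.
-/

set_option autoImplicit false

namespace Cfsg.Agent.Lib.Helper76.BG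

open Cfsg

variable {G : Type*} [Group G]

/-- **TI class count.**  `D ⊆ G` is invariant under conjugation by the subgroup `Z` and
`g d g⁻¹ ∈ D` (`d ∈ D`) forces `g ∈ Z`.  Then the class support of `D` has `|D| |G| / |Z|`
elements. -/
theorem ti_class_count [Finite G] (Z : Subgroup G) (D : Set G)
    (hinv : ∀ z ∈ Z, ∀ d ∈ D, z * d * z⁻¹ ∈ D)
    (hTI : ∀ d ∈ D, ∀ g : G, g * d * g⁻¹ ∈ D → g ∈ Z) :
    Set.ncard {a : G | ∃ g : G, ∃ d ∈ D, a = g * d * g⁻¹} * Nat.card Z =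
      Set.ncard D * Nat.card G := by
  classical
  have hrep : ∀ a : ({a : G | ∃ g : G, ∃ d ∈ D, a = g * d * g⁻¹} : Set G),
      ∃ p : G × G, p.2 ∈ D ∧ (a : G) = p.1 * p.2 * p.1⁻¹ := by
    rintro ⟨a, g, d, hd, rfl⟩
    exact ⟨(g, d), hd, rfl⟩
  choose rep hrepD hrepeq using hrep
  have hinv' : ∀ z ∈ Z, ∀ d ∈ D, z⁻¹ * d * z ∈ D := by
    intro z hz d hd
    have := hinv z⁻¹ (inv_mem hz) d hd
    simpa using this
  let f : ({a : G | ∃ g : G, ∃ d ∈ D, a = g * d * g⁻¹} : Set G) × Z → G × D := fun q =>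
    ((rep q.1).1 * (q.2 : G),
      ⟨(q.2 : G)⁻¹ * (rep q.1).2 * (q.2 : G), hinv' _ q.2.2 _ (hrepD q.1)⟩)
  have hf : Function.Bijective f := by
    constructor
    · rintro ⟨a, z⟩ ⟨a', z'⟩ h
      simp only [f, Prod.mk.injEq, Subtype.mk.injEq] at h
      obtain ⟨h1, h2⟩ := h
      have ha : (a : G) = (a' : G) := by
        rw [hrepeq a, hrepeq a']
        calc (rep a).1 * (rep a).2 * (rep a).1⁻¹
            = ((rep a).1 * (z : G)) * ((z : G)⁻¹ * (rep a).2 * (z : G)) *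
                ((rep a).1 * (z : G))⁻¹ := by group
          _ = ((rep a').1 * (z' : G)) * ((z' : G)⁻¹ * (rep a').2 * (z' : G)) *
                ((rep a').1 * (z' : G))⁻¹ := by rw [h1, h2]
          _ = (rep a').1 * (rep a').2 * (rep a').1⁻¹ := by group
      have ha' : a = a' := Subtype.ext ha
      subst ha'
      have hz : (z : G) = z' := mul_left_cancel h1
      exact Prod.ext rfl (Subtype.ext hz)
    · rintro ⟨g, d, hd⟩
      have haC : g * d * g⁻¹ ∈ ({a : G | ∃ g : G, ∃ d ∈ D, a = g * d * g⁻¹} : Set G) :=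
        ⟨g, d, hd, rfl⟩
      have h := hrepeq ⟨g * d * g⁻¹, haC⟩
      have hD := hrepD ⟨g * d * g⁻¹, haC⟩
      have hkey : (rep ⟨g * d * g⁻¹, haC⟩).1⁻¹ * g * d * ((rep ⟨g * d * g⁻¹, haC⟩).1⁻¹ * g)⁻¹ =
          (rep ⟨g * d * g⁻¹, haC⟩).2 := by
        calc (rep ⟨g * d * g⁻¹, haC⟩).1⁻¹ * g * d * ((rep ⟨g * d * g⁻¹, haC⟩).1⁻¹ * g)⁻¹
            = (rep ⟨g * d * g⁻¹, haC⟩).1⁻¹ * (g * d * g⁻¹) * (rep ⟨g * d * g⁻¹, haC⟩).1 := by
              group
          _ = (rep ⟨g * d * g⁻¹, haC⟩).1⁻¹ *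
                ((rep ⟨g * d * g⁻¹, haC⟩).1 * (rep ⟨g * d * g⁻¹, haC⟩).2 *
                  (rep ⟨g * d * g⁻¹, haC⟩).1⁻¹) * (rep ⟨g * d * g⁻¹, haC⟩).1 := by
              rw [← h]
          _ = (rep ⟨g * d * g⁻¹, haC⟩).2 := by group
      have hz : (rep ⟨g * d * g⁻¹, haC⟩).1⁻¹ * g ∈ Z := by
        apply hTI d hd
        rw [hkey]
        exact hD
      refine ⟨(⟨g * d * g⁻¹, haC⟩, ⟨_, hz⟩), ?_⟩
      simp only [f]
      refine Prod.ext ?_ (Subtype.ext ?_)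
      · simp
      · simp only
        rw [← hkey]
        group
  have hcard := Nat.card_congr (Equiv.ofBijective f hf)
  rw [Nat.card_prod, Nat.card_prod] at hcard
  rw [← Nat.card_coe_set_eq, ← Nat.card_coe_set_eq]
  rw [hcard, mul_comm]

/-- **P1 ⇒ `|M| = |M_σ| |K|`.** -/
theorem card_eq_of_P1 [Finite G] (M K : Subgroup G)
    (hσ : IsPiHallOf (sigma M) (sigmaCore M) M) (hK : IsPiHallOf (kappa M) K M)
    (hP1 : ∀ q : ℕ, q.Prime → q ∣ Nat.card M → q ∉ sigma M → q ∈ kappa M) :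
    Nat.card M = Nat.card (sigmaCore M) * Nat.card K := by
  have e1 : Nat.card (sigmaCore M) * (sigmaCore M).relIndex M = Nat.card M :=
    Cfsg.Agent.Lib.Helper35.BG.card_mul_relIndex' hσ.1
  have e2 : Nat.card K * K.relIndex M = Nat.card M :=
    Cfsg.Agent.Lib.Helper35.BG.card_mul_relIndex' hK.1
  have hκσ : ∀ q : ℕ, q ∈ kappa M → q ∉ sigma M := fun q hq => hq.2.2.1
  -- |K| divides the index of M_σ
  have c1 : (Nat.card K).Coprime (Nat.card (sigmaCore M)) :=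
    Nat.coprime_of_dvd fun k hk h1 h2 => hκσ k (hK.2.1 k hk h1) (hσ.2.1 k hk h2)
  have d1 : Nat.card K ∣ (sigmaCore M).relIndex M := by
    have : Nat.card K ∣ Nat.card (sigmaCore M) * (sigmaCore M).relIndex M := by
      rw [e1]; exact Dvd.intro _ e2
    exact c1.dvd_of_dvd_mul_left this
  -- the index of M_σ divides |K|
  have c2 : ((sigmaCore M).relIndex M).Coprime (K.relIndex M) := by
    apply Nat.coprime_of_dvd
    intro k hk h1 h2
    have hkM : k ∣ Nat.card M := by rw [← e1]; exact Dvd.dvd.mul_left h1 _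
    have hkσ : k ∉ sigma M := fun h => hσ.2.2 k hk h h1
    exact hK.2.2 k hk (hP1 k hk hkM hkσ) h2
  have d2 : (sigmaCore M).relIndex M ∣ Nat.card K := by
    have : (sigmaCore M).relIndex M ∣ Nat.card K * K.relIndex M := by
      rw [e2]; exact Dvd.intro_left _ e1
    exact c2.dvd_of_dvd_mul_right this
  rw [← e1, Nat.dvd_antisymm d1 d2]

/-- **BG 14.2(g)**: a maximal subgroup `M` with a Hall `κ(M)`-subgroup `K ≠ 1` and a prime divisor
outside `σ(M) ∪ κ(M)` has `|K|` prime, `M_σ` nilpotent and `|M_σ| = |C_{M_σ}(K)| ^ |K|`. -/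
theorem card_prime_of_not_P1 [Finite G] (hG : IsMinSimpleOddOrder G)
    (h1429 : type_of% (@Cfsg.CfsgFrozen.S1429 G _ _ hG))
    (h1430 : type_of% (@Cfsg.CfsgFrozen.S1430 G _ _ hG))
    (M : Subgroup G) (hM : IsCoatom M) (K : Subgroup G) (hK : IsPiHallOf (kappa M) K M)
    (hK1 : K ≠ ⊥)
    (hP1 : ¬ (∀ q : ℕ, q.Prime → q ∣ Nat.card M → q ∉ sigma M → q ∈ kappa M)) :
    (Nat.card K).Prime ∧ Group.IsNilpotent (sigmaCore M) ∧
      Nat.card (sigmaCore M) =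
        Nat.card ↥(sigmaCore M ⊓ Subgroup.centralizer (K : Set G)) ^ Nat.card K := by
  classical
  have hP1' := hP1
  push Not at hP1'
  obtain ⟨r, hr, hrM, hrσ, hrκ⟩ := hP1'
  haveI : Fact r.Prime := ⟨hr⟩
  obtain ⟨h1, ⟨U, -, hUH, hKU, hfpf⟩, -⟩ := h1430 M hM K hK hK1
  have hrπ : r ∈ {q : ℕ | q.Prime ∧ q ∉ kappa M ∧ q ∉ sigma M} := ⟨hr, hrκ, hrσ⟩
  obtain ⟨S, hS⟩ := Cfsg.Agent.Lib.Helper47.BG.exists_sylow_le_of_isPiHallOf hUH hrπ
  obtain ⟨-, hC, hnil⟩ := h1429 M hM hP1 r hrM (by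
    intro h
    rcases h with h | h
    · exact hrσ h
    · exact hrκ h) S
  have hσle : sigmaCore M ≤ M := Cfsg.Agent.Lib.Helper67.BG.sigmaCore_le M
  have hσn : M ≤ Subgroup.normalizer (sigmaCore M : Set G) :=
    Cfsg.Agent.Lib.Helper67.BG.sigmaCore_normalizer M
  have hκσ : ∀ q : ℕ, q ∈ kappa M → q ∉ sigma M := fun q hq => hq.2.2.1
  -- `M_σ ≠ 1`
  have hσ1 : sigmaCore M ≠ ⊥ := by
    have hc : Nat.card K ≠ 1 := fun h => hK1 (Subgroup.eq_bot_of_card_eq K h)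
    obtain ⟨p, hp, hdvd⟩ := Nat.exists_prime_and_dvd hc
    haveI : Fact p.Prime := ⟨hp⟩
    have hpκ : p ∈ kappa M := hK.2.1 p hp hdvd
    obtain ⟨-, -, -, hcyc⟩ := hpκ
    obtain ⟨-, x, -, -, y, hy, hy1, -⟩ := hcyc default
    intro h
    rw [h, Subgroup.mem_bot] at hy
    exact hy1 hy
  -- `C_{M_σ}(U) = 1`
  have hclU : Subgroup.closure {x : G | x ∈ (S : Subgroup M).map M.subtype ∧ x ^ r = 1} ≤ U := by
    rw [Subgroup.closure_le]
    rintro x ⟨⟨y, hy, rfl⟩, -⟩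
    exact hS y hy
  have hCU : sigmaCore M ⊓ Subgroup.centralizer (U : Set G) = ⊥ := by
    rw [eq_bot_iff, ← hC]
    exact inf_le_inf_left _ (Subgroup.centralizer_le hclU)
  -- `U ≠ 1`
  have eU : Nat.card U * U.relIndex M = Nat.card M :=
    Cfsg.Agent.Lib.Helper35.BG.card_mul_relIndex' hUH.1
  have hrU : r ∣ Nat.card U := by
    have h2 : r ∣ Nat.card U * U.relIndex M := by rw [eU]; exact hrM
    rcases (Nat.Prime.dvd_mul hr).mp h2 with h3 | h3
    · exact h3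
    · exact absurd h3 (hUH.2.2 r hr hrπ)
  have hU1 : U ≠ ⊥ := by
    intro h
    rw [h, Subgroup.card_bot] at hrU
    exact hr.one_lt.ne' (Nat.dvd_one.mp hrU)
  -- coprimality
  have hUK : (Nat.card U).Coprime (Nat.card K) :=
    Nat.coprime_of_dvd fun k hk h1 h2 => (hUH.2.1 k hk h1).2.1 (hK.2.1 k hk h2)
  have hUKbot : U ⊓ K = ⊥ := (Subgroup.disjoint_of_coprime_natCard hUK).eq_bot
  have hsupM : U ⊔ K ≤ M := sup_le hUH.1 hK.1
  have hMtop : M ≠ ⊤ := hM.1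
  have hsupne : U ⊔ K ≠ ⊤ := fun h => hMtop (top_le_iff.mp (h ▸ hsupM))
  have hsolv : Group.IsSolvable ↥(U ⊔ K) :=
    Cfsg.Agent.Lib.Helper35.BG.isSolvable_of_ne_top hG hsupne
  have hodd : Odd (Nat.card ↥(U ⊔ K)) := Cfsg.Agent.Lib.Helper35.BG.odd_card_subgroup hG _
  have hdvd : Nat.card ↥(U ⊔ K) ∣ Nat.card K * Nat.card U := by
    have := Cfsg.Agent.Lib.Helper27.BG.card_sup_dvd_mul hKU
    rwa [sup_comm] at this
  have hcop : (Nat.card ↥(U ⊔ K)).Coprime (Nat.card (sigmaCore M)) := by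
    apply Nat.coprime_of_dvd
    intro k hk h1 h2
    have hkσ : k ∈ sigma M := Cfsg.Agent.Lib.Helper67.BG.sigmaCore_isPi M k hk h2
    rcases (Nat.Prime.dvd_mul hk).mp (h1.trans hdvd) with h3 | h3
    · exact hκσ k (hK.2.1 k hk h3) hkσ
    · exact (hUH.2.1 k hk h3).2.2 hkσ
  obtain ⟨hprime, hcard, -⟩ := Cfsg.Agent.S1446.result U K (sigmaCore M) hU1 hK1 hUKbot hKU hfpf
    hsolv hodd hσ1 hnil (hUH.1.trans hσn) (hK.1.trans hσn) hcop hCU h1
  exact ⟨hprime, hnil, hcard⟩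

end Cfsg.Agent.Lib.Helper76.BG
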