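import Mathlib
import Cfsg.Prelude
import Cfsg.Agent.Lib.Helper2.BG.PartnerDefs
import Cfsg.Agent.Lib.Helper76.BG.PolyTilde
import Cfsg.Agent.Lib.Helper76.BG.PolyCount

/-!
# Packages SUPP and TILDE (and an alternative T2) of helper2's BG 14.7 project
-/

set_option autoImplicit false

namespace Cfsg.Agent.Lib.Helper76.BG

open Cfsg

universe u

/-- Package SUPP: `R(x)` is equivariant under conjugation. -/
theorem lemSupp : Cfsg.Agent.Lib.Helper2.BG47.LemSupp.{u} := by
  intro G _ _ L g a
  exact supportR_map_conj L a g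

/-- Package TILDE: the tilde-sets of two non-conjugate coatoms are disjoint. -/
theorem lemTildeDisj : Cfsg.Agent.Lib.Helper2.BG47.LemTildeDisj.{u} := by
  intro _ G _ _ hG h1378 h1433 L L' hL hL' hne
  rw [Set.disjoint_iff_inter_eq_empty]
  exact tilde_disjoint hG h1378 h1433 L L' hL hL' hne

/-- Package T2 (alternative proof): not of type P1 ⇒ `|K|` prime. -/
theorem lemT2_alt : Cfsg.Agent.Lib.Helper2.BG47.LemT2.{u} := by
  intro G _ _ hG h1429 h1430 L hL K hK hK1 hP1
  exact (card_prime_of_not_P1 hG h1429 h1430 L hL K hK hK1 hP1).1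

end Cfsg.Agent.Lib.Helper76.BG
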