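import Mathlib
import Cfsg.Agent.Lib.Helper98.BG.SigmaDefs
import Cfsg.Agent.Lib.Helper13.BG.S1427A
import Cfsg.Agent.Lib.Helper27.BG.SigmaBasic
import Cfsg.Agent.Lib.Helper78.BG.S1405Core

/-!
# Sigma-partition project (helper98), package C2 (helper76)

`lemC2 : LemA → LemB → LemC1 → LemC2`.  For a complement `E ≤ N_G(Q)` of `M_σ` in `M`
(in a would-be counterexample `BadPair M H Q q`): some prime of `τ₁(M)` divides `|E|`, and every
subgroup `P ≤ E` of order `p ∈ τ₁(M)` has `C_Q(P) = 1`.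

Generic tools proved here:
* `exists_mul_centralizer_of_not_dvd` : if `D ⊴ E`, `[E, P] ≤ D`, `|P| = p ∤ |D|`, then
  `E = D · C_E(P)` (Sylow/Frattini argument in `D P`).
* `mem_of_primePower_parts` : an element lies in a subgroup as soon as all its powers of
  prime-power order do.
-/

set_option autoImplicit false
set_option linter.style.haveILetI false

namespace Cfsg.Agent.Lib.Helper76.BG

open Cfsg Cfsg.Agent.Lib.Helper46 Cfsg.Agent.Lib.Helper98.BG13

universe u

section Generic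

variable {G : Type u} [Group G]

/-- The normalizers of two subgroups normalize their intersection. -/
theorem mem_normalizer_inf_c2 {A B : Subgroup G} {g : G}
    (hA : g ∈ Subgroup.normalizer (A : Set G)) (hB : g ∈ Subgroup.normalizer (B : Set G)) :
    g ∈ Subgroup.normalizer ((A ⊓ B : Subgroup G) : Set G) := by
  rw [Subgroup.mem_normalizer_iff] at hA hB ⊢
  intro h
  rw [Subgroup.mem_inf, Subgroup.mem_inf, ← hA h, ← hB h]

/-- Coprime action on a normal section: if `D ≤ E` is normalized by `E`, `[E, P] ≤ D`, and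
`P ≤ E` has prime order `p` not dividing `|D|`, then every element of `E` is a product of an
element of `D` and an element of `C_E(P)`. -/
theorem exists_mul_centralizer_of_not_dvd [Finite G] {E D P : Subgroup G} {p : ℕ} [Fact p.Prime]
    (hDE : D ≤ E) (hnorm : E ≤ Subgroup.normalizer (D : Set G))
    (hcomm : ∀ e ∈ E, ∀ y ∈ P, e * y * e⁻¹ * y⁻¹ ∈ D)
    (hPE : P ≤ E) (hP : Nat.card P = p) (hpD : ¬ p ∣ Nat.card D) {e : G} (he : e ∈ E) :
    ∃ a ∈ D, ∃ c ∈ E ⊓ Subgroup.centralizer (P : Set G), e = a * c := by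
  have hpp : p.Prime := Fact.out
  have hPN : P ≤ Subgroup.normalizer (D : Set G) := hPE.trans hnorm
  have hPp : IsPGroup p P := IsPGroup.of_card (n := 1) (by rw [hP, pow_one])
  have hcop : (Nat.card P).Coprime (Nat.card D) := by
    rw [hP]; exact (Nat.Prime.coprime_iff_not_dvd hpp).mpr hpD
  have hdisj : P ⊓ D = ⊥ := (Subgroup.disjoint_of_coprime_natCard hcop).eq_bot
  have hLdvd : Nat.card (P ⊔ D : Subgroup G) ∣ Nat.card P * Nat.card D :=
    Cfsg.Agent.Lib.Helper27.BG.card_sup_dvd_mul hPN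
  have hPL : P ≤ P ⊔ D := le_sup_left
  have hnd : ¬ p ∣ P.relIndex (P ⊔ D) := by
    intro hdvd
    have e1 := Cfsg.Agent.Lib.Helper35.BG.card_mul_relIndex' hPL
    rw [← e1] at hLdvd
    have h2 : P.relIndex (P ⊔ D) ∣ Nat.card D :=
      Nat.dvd_of_mul_dvd_mul_left Nat.card_pos hLdvd
    exact hpD (hdvd.trans h2)
  have hAL : P.map (MulAut.conj e).toMonoidHom ≤ P ⊔ D := by
    rintro _ ⟨y, hy, rfl⟩
    have h1 : e * y * e⁻¹ = (e * y * e⁻¹ * y⁻¹) * y := by group
    show e * y * e⁻¹ ∈ _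
    rw [h1]
    exact Subgroup.mul_mem _ (Subgroup.mem_sup_right (hcomm e he y hy)) (Subgroup.mem_sup_left hy)
  obtain ⟨l, hl, hle⟩ := Cfsg.Agent.Lib.Helper13.BG.exists_conj_le_of_not_dvd_relIndex
    (Cfsg.Agent.Lib.Helper35.BG.isPGroup_map_conj hPp e) hAL hPL hnd
  have hl' : l ∈ ((P ⊔ D : Subgroup G) : Set G) := hl
  rw [Subgroup.coe_mul_of_left_le_normalizer_right P D hPN] at hl'
  obtain ⟨y, hy, d, hd, rfl⟩ := Set.mem_mul.mp hl'
  have hy' : y ∈ P := hy
  have hd' : d ∈ D := hd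
  have hnE : d * e ∈ E := E.mul_mem (hDE hd') he
  have hnP : ∀ z ∈ P, (d * e) * z * (d * e)⁻¹ ∈ P := by
    intro z hz
    have h1 : (y * d) * (e * z * e⁻¹) * (y * d)⁻¹ ∈ P := by
      exact hle (Subgroup.mem_map_of_mem _ (Subgroup.mem_map_of_mem _ hz))
    have h2 : (d * e) * z * (d * e)⁻¹ = y⁻¹ * ((y * d) * (e * z * e⁻¹) * (y * d)⁻¹) * y := by
      group
    rw [h2]
    exact P.mul_mem (P.mul_mem (P.inv_mem hy') h1) hy'
  have hnC : d * e ∈ Subgroup.centralizer (P : Set G) := by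
    rw [Subgroup.mem_centralizer_iff]
    intro z hz
    have h1 : (d * e) * z * (d * e)⁻¹ * z⁻¹ ∈ P ⊓ D :=
      Subgroup.mem_inf.mpr ⟨P.mul_mem (hnP z hz) (P.inv_mem hz), hcomm _ hnE z hz⟩
    rw [hdisj, Subgroup.mem_bot] at h1
    have h2 : (d * e) * z = ((d * e) * z * (d * e)⁻¹ * z⁻¹) * (z * (d * e)) := by group
    rw [h1, one_mul] at h2
    exact h2.symm
  exact ⟨d⁻¹, D.inv_mem hd', d * e, Subgroup.mem_inf.mpr ⟨hnE, hnC⟩, by group⟩

/-- An element lies in a subgroup `T` as soon as all of its powers of prime-power order do. -/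
theorem mem_of_primePower_parts [Finite G] (T : Subgroup G) (c : G)
    (hpp : ∀ d ∈ Subgroup.zpowers c, ∀ (t k : ℕ), t.Prime → orderOf d = t ^ k → d ∈ T) :
    c ∈ T := by
  have hn0 : orderOf c ≠ 0 := (orderOf_pos c).ne'
  have hU0 : Nat.card (T ⊓ Subgroup.zpowers c : Subgroup G) ≠ 0 := Nat.card_pos.ne'
  have hU : Nat.card (T ⊓ Subgroup.zpowers c : Subgroup G) = orderOf c := by
    apply Nat.dvd_antisymm
    · rw [← Nat.card_zpowers]; exact Subgroup.card_dvd_of_le inf_le_right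
    · rw [← Nat.factorization_le_iff_dvd hn0 hU0]
      intro t
      by_cases ht : t.Prime
      · have hdvd1 : t ^ (orderOf c).factorization t ∣ orderOf c := Nat.ordProj_dvd _ _
        have hne : orderOf c / t ^ (orderOf c).factorization t ≠ 0 := by
          intro h0
          have := Nat.div_mul_cancel hdvd1
          rw [h0, zero_mul] at this
          exact hn0 this.symm
        have hd : orderOf (c ^ (orderOf c / t ^ (orderOf c).factorization t))
            = t ^ (orderOf c).factorization t := by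
          rw [orderOf_pow_of_dvd hne (Nat.div_dvd_of_dvd hdvd1), Nat.div_div_self hdvd1 hn0]
        have hmem : c ^ (orderOf c / t ^ (orderOf c).factorization t)
            ∈ T ⊓ Subgroup.zpowers c :=
          Subgroup.mem_inf.mpr ⟨hpp _ (Subgroup.npow_mem_zpowers c _) t _ ht hd,
            Subgroup.npow_mem_zpowers c _⟩
        have hdvd : t ^ (orderOf c).factorization t
            ∣ Nat.card (T ⊓ Subgroup.zpowers c : Subgroup G) := by
          rw [← hd]; exact Subgroup.orderOf_dvd_natCard _ hmem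
        exact (ht.pow_dvd_iff_le_factorization hU0).mp hdvd
      · simp [Nat.factorization_eq_zero_of_not_prime _ ht]
  have hUeq : T ⊓ Subgroup.zpowers c = Subgroup.zpowers c :=
    Subgroup.eq_of_le_of_card_ge inf_le_right (by rw [hU, Nat.card_zpowers])
  have hc : c ∈ T ⊓ Subgroup.zpowers c := by rw [hUeq]; exact Subgroup.mem_zpowers c
  exact (Subgroup.mem_inf.mp hc).1

end Generic

section Main

variable {G : Type u} [Group G] [Finite G]

/-- A prime dividing the order of a complement of `M_σ` is not in `σ(M)`. -/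
theorem not_mem_sigma_of_dvd_card_compl (hG : IsMinSimpleOddOrder G) (hy : Hy hG)
    {M E : Subgroup G} (hM : IsCoatom M) (hE : IsComplIn E (sigmaCore M) M) {t : ℕ}
    (ht : t.Prime) (hdvd : t ∣ Nat.card E) : t ∉ sigma M := by
  have hσ := (Cfsg.Agent.Lib.Helper66.BG.s1350_core hG hy.h1404 hy.h1405 M hM).1
  have h1 : (sigmaCore M).relIndex M = Nat.card E :=
    Cfsg.Agent.Lib.Helper35.BG.relIndex_right_of_isComplIn hE
  intro hσt
  exact hσ.2.2 t ht hσt (by rw [h1]; exact hdvd)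

/-- If `τ₂(M) = ∅`, then `M` has `t`-rank at most one for every prime `t` dividing the order of
a complement of `M_σ`. -/
theorem pRankLE_one_of_dvd_card_compl (hG : IsMinSimpleOddOrder G) (hy : Hy hG)
    {M E : Subgroup G} (hM : IsCoatom M) (hE : IsComplIn E (sigmaCore M) M)
    (hτ2 : ∀ p : ℕ, p ∉ tau2 M) {t : ℕ} (ht : t.Prime) (hdvd : t ∣ Nat.card E) :
    PRankLE t 1 M := by
  have hσ := not_mem_sigma_of_dvd_card_compl hG hy hM hE ht hdvd
  have hα : t ∉ alpha M := fun h =>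
    hσ (Cfsg.Agent.Lib.Helper78.BG.alpha_subset_sigma hG hy.h1403 M hM h)
  have h2 : PRankLE t 2 M := by
    by_contra h
    exact hα ⟨ht, h⟩
  by_contra h1
  exact hτ2 t ⟨ht, hσ, h2, h1⟩

/-- The first half of C2: some prime of `τ₁(M)` divides `|E|`. -/
theorem exists_tau1_dvd_card (hA : LemA.{u}) (hB : LemB.{u}) (hC1 : LemC1.{u})
    (hG : IsMinSimpleOddOrder G) (hy : Hy hG) {M H Q : Subgroup G} {q : ℕ}
    (hb : BadPair M H Q q) {E : Subgroup G} (hEN : E ≤ Subgroup.normalizer (Q : Set G))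
    (hE : IsComplIn E (sigmaCore M) M) : ∃ p : ℕ, p ∈ tau1 M ∧ p ∣ Nat.card E := by
  by_contra hcon
  push Not at hcon
  obtain ⟨-, -, -, -, -, hτ2, -⟩ := hA hG hy M H Q q hb
  have hBb := (hB hG hy M H Q q hb).2
  have hCc := (hC1 hG hy M H Q q hb).2 E hE
  have hM := hb.hM
  -- every prime divisor of `|E|` lies in `τ₃(M)`
  have hτ3 : IsPiHallOf (tau3 M) E E := by
    refine ⟨le_rfl, fun t ht hdvd => ?_, fun t ht _ hdvd => ?_⟩
    · have hσ := not_mem_sigma_of_dvd_card_compl hG hy hM hE ht hdvd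
      have hr1 := pRankLE_one_of_dvd_card_compl hG hy hM hE hτ2 ht hdvd
      have hdM : t ∣ Nat.card M := hdvd.trans (Subgroup.card_dvd_of_le hE.1)
      refine ⟨ht, hσ, ?_, hr1⟩
      by_contra hnd
      exact hcon t ⟨ht, hσ, hdM, hnd, hr1⟩ hdvd
    · rw [Subgroup.relIndex_self] at hdvd
      exact ht.one_lt.ne' (Nat.dvd_one.mp hdvd)
  obtain ⟨-, hEE, -⟩ := (hy.h1415 M hM E hE).2.2 E hτ3
  have hEM' : E ≤ ⁅M, M⁆ := hEE.trans (Subgroup.commutator_mono hE.1 hE.1)
  have hEC : E ≤ Subgroup.centralizer (Q : Set G) := fun e he =>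
    hBb (Subgroup.mem_inf.mpr ⟨hEN he, hEM' he⟩)
  have hQC : Q ≤ Subgroup.centralizer (E : Set G) := by
    intro x hx
    rw [Subgroup.mem_centralizer_iff]
    intro e he
    exact ((Subgroup.mem_centralizer_iff.mp (hEC he)) x hx).symm
  have hQbot : Q = ⊥ := by
    rw [← hCc]; exact (inf_eq_left.mpr hQC).symm
  -- but `Q` is a nontrivial Sylow subgroup of `G`
  obtain ⟨hq, hqdvd, -⟩ := hb.hqM
  have hqG : q ∣ Nat.card (⊤ : Subgroup G) := by
    rw [Subgroup.card_top]; exact hqdvd.trans (Subgroup.card_subgroup_dvd_card M)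
  have hcard : Nat.card Q = q ^ (Nat.card (⊤ : Subgroup G)).factorization q := hb.hQ.2
  have hpos : 0 < (Nat.card (⊤ : Subgroup G)).factorization q :=
    hq.factorization_pos_of_dvd Nat.card_pos.ne' hqG
  rw [hQbot, Subgroup.card_bot] at hcard
  have : 1 < q ^ (Nat.card (⊤ : Subgroup G)).factorization q :=
    Nat.one_lt_pow hpos.ne' hq.one_lt
  omega

/-- An element `c ≠ 1` of prime-power order of `C_E(P)` centralizes `C_{M_σ}(P)`. -/
theorem centralizer_le_of_primePower (hG : IsMinSimpleOddOrder G) (hy : Hy hG)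
    {M E : Subgroup G} (hM : IsCoatom M) (hE : IsComplIn E (sigmaCore M) M)
    (hτ2 : ∀ p : ℕ, p ∉ tau2 M) {p : ℕ} {P : Subgroup G} (hp : p ∈ tau1 M) (hPE : P ≤ E)
    (hP : Nat.card P = p) {c : G} (hcE : c ∈ E)
    (hcP : c ∈ Subgroup.centralizer (P : Set G)) {t k : ℕ} (ht : t.Prime) (hk : k ≠ 0)
    (ho : orderOf c = t ^ k) :
    sigmaCore M ⊓ Subgroup.centralizer (P : Set G) ≤ Subgroup.centralizer ({c} : Set G) := by
  haveI : Fact t.Prime := ⟨ht⟩
  have hc1 : c ≠ 1 := by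
    rintro rfl
    rw [orderOf_one] at ho
    exact (Nat.one_lt_pow hk ht.one_lt).ne ho
  -- a Sylow `t`-subgroup of `E` containing `c`
  have ho' : orderOf (⟨c, hcE⟩ : E) = t ^ k := by
    rw [← ho, ← Subgroup.orderOf_coe]
  have hzp : IsPGroup t (Subgroup.zpowers (⟨c, hcE⟩ : E)) :=
    IsPGroup.of_card (n := k) (by rw [Nat.card_zpowers, ho'])
  obtain ⟨S, hS⟩ := hzp.exists_le_sylow
  have hcS : (⟨c, hcE⟩ : E) ∈ (S : Subgroup E) := hS (Subgroup.mem_zpowers _)
  have hS1 : (S : Subgroup E) ≠ ⊥ := by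
    intro hbot
    rw [hbot, Subgroup.mem_bot] at hcS
    exact hc1 (congrArg Subtype.val hcS)
  have htE : t ∣ Nat.card E := by
    have h1 : orderOf (⟨c, hcE⟩ : E) ∣ Nat.card E := orderOf_dvd_natCard _
    rw [ho'] at h1
    exact (dvd_pow_self t hk).trans h1
  have ht2 : t ≠ 2 := Cfsg.Agent.Lib.Helper13.BG.prime_ne_two13 hG htE
  have hr1 := pRankLE_one_of_dvd_card_compl hG hy hM hE hτ2 ht htE
  have hSc : IsCyclic (S : Subgroup E) :=
    Cfsg.Agent.Lib.Helper75.BG.isCyclic_of_pRankLE_one t ht2 S.isPGroup'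
      (Cfsg.Agent.Lib.Helper75.BG.pRankLE_of_le M E hE.1 t 1 hr1 (S : Subgroup E))
  have h27 := hy.h1427 M hM E hE t S hS1 hSc
  have hcS' : c ∈ (S : Subgroup E).map E.subtype := ⟨⟨c, hcE⟩, hcS, rfl⟩
  -- the element of order `t`
  have hkk : t ^ (k - 1) * t = t ^ k := by
    rw [← pow_succ]; congr 1; omega
  have hr0o : orderOf (c ^ t ^ (k - 1)) = t := by
    rw [orderOf_pow_of_dvd (pow_ne_zero _ ht.ne_zero) (by rw [ho]; exact Dvd.intro _ hkk), ho,
      ← hkk, Nat.mul_div_cancel_left _ (pow_pos ht.pos _)]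
  have hr01 : c ^ t ^ (k - 1) ≠ 1 := by
    intro h1
    rw [h1, orderOf_one] at hr0o
    exact ht.one_lt.ne hr0o
  have hr0S : c ^ t ^ (k - 1) ∈ (S : Subgroup E).map E.subtype :=
    Subgroup.pow_mem _ hcS' _
  have hR : Nat.card (Subgroup.zpowers (c ^ t ^ (k - 1))) = t := by
    rw [Nat.card_zpowers, hr0o]
  have hRE : Subgroup.zpowers (c ^ t ^ (k - 1)) ≤ E ⊓ Subgroup.centralizer (P : Set G) := by
    rw [Subgroup.zpowers_le]
    exact Subgroup.pow_mem _ (Subgroup.mem_inf.mpr ⟨hcE, hcP⟩) _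
  have h28 := hy.h1428 M hM E hE p hp P hPE hP (Subgroup.zpowers (c ^ t ^ (k - 1))) hRE
    (by rw [hR]; exact ht)
  have hsub : Subgroup.centralizer ((Subgroup.zpowers (c ^ t ^ (k - 1)) : Subgroup G) : Set G)
      ≤ Subgroup.centralizer ({c ^ t ^ (k - 1)} : Set G) :=
    Subgroup.centralizer_le (by
      intro z hz
      rw [Set.mem_singleton_iff] at hz
      rw [hz]
      exact Subgroup.mem_zpowers _)
  intro z hz
  have h1 : z ∈ sigmaCore M ⊓ Subgroup.centralizer ({c ^ t ^ (k - 1)} : Set G) := by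
    have h2 := h28 hz
    exact Subgroup.mem_inf.mpr ⟨(Subgroup.mem_inf.mp h2).1, hsub (Subgroup.mem_inf.mp h2).2⟩
  rw [h27 _ hr0S hr01, ← h27 c hcS' hc1] at h1
  exact (Subgroup.mem_inf.mp h1).2

/-- Package C2 of the sigma-partition project. -/
theorem lemC2 (hA : LemA.{u}) (hB : LemB.{u}) (hC1 : LemC1.{u}) : LemC2.{u} := by
  intro G _ _ hG hy M H Q q hb E hEN hE
  refine ⟨exists_tau1_dvd_card hA hB hC1 hG hy hb hEN hE, ?_⟩
  intro p P hp hPE hP
  obtain ⟨-, hQσ, -, -, -, hτ2, -⟩ := hA hG hy M H Q q hb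
  have hBb := (hB hG hy M H Q q hb).2
  have hCc := (hC1 hG hy M H Q q hb).2 E hE
  have hM := hb.hM
  haveI : Fact p.Prime := ⟨hp.1⟩
  have hpD : ¬ p ∣ Nat.card (E ⊓ ⁅M, M⁆ : Subgroup G) := fun h =>
    hp.2.2.2.1 (h.trans (Subgroup.card_dvd_of_le inf_le_right))
  have hnorm : E ≤ Subgroup.normalizer ((E ⊓ ⁅M, M⁆ : Subgroup G) : Set G) := fun e he =>
    mem_normalizer_inf_c2 (Subgroup.le_normalizer he)
      (Cfsg.Agent.Lib.Helper31.BG.le_normalizer_commutator_self M (hE.1 he))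
  have hcomm : ∀ e ∈ E, ∀ y ∈ P, e * y * e⁻¹ * y⁻¹ ∈ E ⊓ ⁅M, M⁆ := by
    intro e he y hy
    refine Subgroup.mem_inf.mpr ⟨?_, ?_⟩
    · exact E.mul_mem (E.mul_mem (E.mul_mem he (hPE hy)) (E.inv_mem he)) (E.inv_mem (hPE hy))
    · have := Subgroup.commutator_mem_commutator (hE.1 he) (hE.1 (hPE hy))
      rwa [commutatorElement_def] at this
  -- the elements of `C_E(P)` centralize `C_{M_σ}(P)`
  have hkey : E ⊓ Subgroup.centralizer (P : Set G) ≤ Subgroup.centralizer
      ((sigmaCore M ⊓ Subgroup.centralizer (P : Set G) : Subgroup G) : Set G) := by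
    intro c hc
    apply mem_of_primePower_parts
    intro d hd t k ht ho
    have hdc : d ∈ E ⊓ Subgroup.centralizer (P : Set G) :=
      (Subgroup.zpowers_le.mpr hc) hd
    by_cases hk : k = 0
    · rw [hk, pow_zero, orderOf_eq_one_iff] at ho
      rw [ho]; exact Subgroup.one_mem _
    · have h1 := centralizer_le_of_primePower hG hy hM hE hτ2 hp hPE hP
        (Subgroup.mem_inf.mp hdc).1 (Subgroup.mem_inf.mp hdc).2 ht hk ho
      rw [Subgroup.mem_centralizer_iff]
      intro z hz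
      have h2 := Subgroup.mem_centralizer_iff.mp (h1 hz) d (Set.mem_singleton d)
      exact h2.symm
  rw [eq_bot_iff]
  intro y hy
  obtain ⟨hyQ, hyP⟩ := Subgroup.mem_inf.mp hy
  rw [← hCc]
  refine Subgroup.mem_inf.mpr ⟨hyQ, ?_⟩
  rw [Subgroup.mem_centralizer_iff]
  intro e he
  obtain ⟨a, ha, c, hc, rfl⟩ :=
    exists_mul_centralizer_of_not_dvd (inf_le_left : E ⊓ ⁅M, M⁆ ≤ E) hnorm hcomm hPE hP hpD he
  have h1 : y * a = a * y :=
    Subgroup.mem_centralizer_iff.mp
      (hBb (Subgroup.mem_inf.mpr ⟨hEN (Subgroup.mem_inf.mp ha).1, (Subgroup.mem_inf.mp ha).2⟩))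
      y hyQ
  have h2 : y * c = c * y :=
    Subgroup.mem_centralizer_iff.mp (hkey hc) y (Subgroup.mem_inf.mpr ⟨hQσ hyQ, hyP⟩)
  rw [mul_assoc, ← h2, ← mul_assoc, ← h1, mul_assoc]

end Main

end Cfsg.Agent.Lib.Helper76.BG
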